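import Groth.Agent.RigEtale7.Data
import Groth.Agent.Hensel.Newton
import Groth.Agent.Hensel.PairBasic

/-!
Elkik approximation for algebras étale away from an ideal: solutions modulo all powers give solutions
in a noetherian henselian pair.
-/

open MvPolynomial

universe u

namespace Groth.Agent.RigEtale7

variable {A : Type u} [CommRing A] {n : ℕ}

/-- `x` solves the equations `I` modulo `K` -/
def Sol (I : Ideal (MvPolynomial (Fin n) A)) {R : Type u} [CommRing R] [Algebra A R] (K : Ideal R)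
    (x : Fin n → R) : Prop :=
  ∀ p ∈ I, aeval x p ∈ K

variable {I : Ideal (MvPolynomial (Fin n) A)} {R : Type u} [CommRing R] [Algebra A R]

theorem aeval_sub_mem {x y : Fin n → R} {K : Ideal R} (h : ∀ i, y i - x i ∈ K) (p : MvPolynomial (Fin n) A) :
    aeval y p - aeval x p ∈ K := by
  rw [← Ideal.Quotient.eq, ← Ideal.Quotient.mkₐ_eq_mk A, comp_aeval_apply, comp_aeval_apply]
  refine congrArg (fun f => aeval f p) (funext fun i => ?_)
  exact (Ideal.Quotient.eq).2 (h i)

theorem Sol.of_sub_mem {x y : Fin n → R} {K : Ideal R} (hx : Sol I K x) (h : ∀ i, y i - x i ∈ K) :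
    Sol I K y := fun p hp => by
  have := add_mem (aeval_sub_mem h p) (hx p hp)
  rwa [sub_add_cancel] at this

theorem Sol.mono {x : Fin n → R} {K K' : Ideal R} (hx : Sol I K x) (h : K ≤ K') : Sol I K' x :=
  fun p hp => h (hx p hp)

theorem Sol.map {x : Fin n → R} {K : Ideal R} (hx : Sol I K x) {S : Type u} [CommRing S] [Algebra A S]
    (f : R →ₐ[A] S) {K' : Ideal S} (hK : K.map f ≤ K') : Sol I K' (f ∘ x) := fun p hp => by
  have : aeval (f ∘ x) p = f (aeval x p) := (comp_aeval_apply x f p).symm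
  rw [this]
  exact hK (Ideal.mem_map_of_mem f (hx p hp))

theorem eq_bot_of_mul_le [IsNoetherianRing R] {L K : Ideal R} (hK : K ≤ Ideal.jacobson ⊥) (h : L ≤ K * L) :
    L = ⊥ :=
  Submodule.eq_bot_of_le_smul_of_le_jacobson_bot K L (IsNoetherian.noetherian L) h hK

/-- torsion stabilizes -/
theorem exists_inf_ann [IsNoetherianRing R] (t : R) :
    ∃ k₀ : ℕ, ∀ k y w, y = t ^ k * w → k₀ ≤ k → (∀ e, t ^ e * y = 0 → y = 0) := by
  obtain ⟨k₀, hk₀⟩ := monotone_stabilizes_iff_noetherian.2 (inferInstance : IsNoetherian R R)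
    ⟨fun k => LinearMap.ker (LinearMap.mul R R (t ^ k)), monotone_nat_of_le_succ fun k x hx => by
      simp only [LinearMap.mem_ker, LinearMap.mul_apply'] at hx ⊢
      rw [pow_succ, mul_comm (t ^ k) t, mul_assoc, hx, mul_zero]⟩
  refine ⟨k₀, fun k y w hy hk e he => ?_⟩
  subst hy
  rw [← mul_assoc, ← pow_add] at he
  have h1 : w ∈ LinearMap.ker (LinearMap.mul R R (t ^ (e + k))) := by simpa using he
  have h2 : w ∈ LinearMap.ker (LinearMap.mul R R (t ^ k₀)) := (hk₀ (e + k) (by omega)).ge h1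
  simp only [LinearMap.mem_ker, LinearMap.mul_apply'] at h2
  rw [show k = (k - k₀) + k₀ by omega, pow_add, mul_assoc, h2, mul_zero]

/-- an approximate solution modulo a high power of `a` gives a solution -/
theorem exists_sol_step [IsNoetherianRing R] {a : A} {c : ℕ} {g : Fin n → MvPolynomial (Fin n) A}
    (hg : EtEq I a c g) {J : Ideal R} [HenselianRing R J] (haJ : algebraMap A R a ∈ J) :
    ∃ M₀ : ℕ, ∀ M, M₀ ≤ M → c ≤ M ∧ ∀ x₀ : Fin n → R, Sol I (Ideal.span {algebraMap A R a ^ M}) x₀ →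
      ∃ x, Sol I ⊥ x ∧ ∀ i, x i - x₀ i ∈ Ideal.span {algebraMap A R a ^ (M - c)} := by
  classical
  set t := algebraMap A R a
  obtain ⟨k₀, hk₀⟩ := exists_inf_ann t
  refine ⟨2 * c + 1 + k₀ + c, fun M hM => ⟨by omega, fun x₀ hx₀ => ?_⟩⟩
  obtain ⟨hgI, hgJ, hg2⟩ := hg
  let E : Ideal R := Ideal.span {t}
  have hEJ : E ≤ J := (Ideal.span_singleton_le_iff_mem _).2 haJ
  haveI : HenselianRing R (Ideal.span {t ^ (M - 2 * c)}) :=
    Groth.Agent.Hensel.henselianRing_of_le (J := J) ((Ideal.span_singleton_le_iff_mem _).2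
      (J.pow_mem_of_mem haJ _ (by omega)))
  -- coefficients
  choose b hb using fun j => Ideal.mem_span_singleton'.1 (hx₀ (g j) (hgI j))
  have hW : ∀ j k, ∃ w, aeval x₀ (pderiv k (g j)) = (if k = j then t ^ c else 0) + t ^ M * w := by
    intro j k
    obtain ⟨w, hw⟩ := Ideal.mem_span_singleton'.1 (hx₀ _ (hgJ j k))
    refine ⟨w, ?_⟩
    rw [map_sub, apply_ite (aeval x₀), aeval_C, map_zero, map_pow] at hw
    rw [mul_comm (t ^ M) w, hw]; abel
  choose w hw using hW
  let y : Fin n → MvPolynomial (Fin n) R := fun i => C (x₀ i)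
  let d : Fin n → MvPolynomial (Fin n) R := fun i => C (t ^ c) * X i
  let Z : Ideal (MvPolynomial (Fin n) R) := Ideal.span (Set.range X)
  have hd : Ideal.span (Set.range d) ^ 2 ≤ Ideal.span {C (t ^ c)} ^ 2 * Z ^ 2 := by
    rw [← mul_pow]
    refine Ideal.pow_right_mono (Ideal.span_le.2 ?_) 2
    rintro _ ⟨i, rfl⟩
    exact Ideal.mul_mem_mul (Ideal.mem_span_singleton_self _) (Ideal.subset_span ⟨i, rfl⟩)
  have hH : ∀ j, ∃ H ∈ Z ^ 2, aeval (y + d) (g j) - aeval y (g j) - ∑ k, aeval y (pderiv k (g j)) * d k =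
      C (t ^ c) ^ 2 * H := by
    intro j
    have h := hd (taylor y d (g j))
    rw [Ideal.span_singleton_pow, Ideal.mem_span_singleton_mul] at h
    obtain ⟨H, hH, hH'⟩ := h
    exact ⟨H, hH, hH'.symm⟩
  choose H hHZ hH using hH
  have hC : ∀ p : MvPolynomial (Fin n) A, aeval y p = C (aeval x₀ p) := fun p => by
    rw [show y = (IsScalarTower.toAlgHom A R (MvPolynomial (Fin n) R)) ∘ x₀ from rfl]
    exact (comp_aeval_apply x₀ _ p).symm
  let v : Fin n → MvPolynomial (Fin n) R := fun j =>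
    C (t ^ (M - 2 * c) * b j) + X j + ∑ k, C (t ^ (M - c) * w j k) * X k + H j
  have hkey : ∀ j, aeval (y + d) (g j) = C (t ^ c) ^ 2 * v j := by
    intro j
    have h := hH j
    rw [hC, sub_eq_iff_eq_add, sub_eq_iff_eq_add] at h
    rw [h]
    simp only [hC, hw, d, v, mul_add, ← hb]
    rw [show (∑ k, C ((if k = j then t ^ c else 0) + t ^ M * w j k) * (C (t ^ c) * X k) : MvPolynomial (Fin n) R) =
        C (t ^ c) ^ 2 * X j + C (t ^ c) ^ 2 * ∑ k, C (t ^ (M - c) * w j k) * X k by
      simp only [map_add, add_mul, Finset.sum_add_distrib, Finset.mul_sum]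
      congr 1
      · rw [Finset.sum_eq_single j] <;> simp +contextual [eq_comm]
        ring
      · refine Finset.sum_congr rfl fun k _ => ?_
        rw [show (C (t ^ c) : MvPolynomial (Fin n) R) ^ 2 = C (t ^ c) * C (t ^ c) from sq _]
        have : t ^ M = t ^ c * t ^ (M - c) := by rw [← pow_add]; congr 1; omega
        rw [this]
        simp only [map_mul]
        ring]
    have hbC : (C (b j * t ^ M) : MvPolynomial (Fin n) R) =
        C (t ^ c) ^ 2 * C (t ^ (M - 2 * c) * b j) := by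
      rw [← map_pow MvPolynomial.C, ← map_mul, ← mul_assoc, ← pow_mul, ← pow_add, mul_comm (b j)]
      congr 3
      omega
    rw [hbC]
    ring
  set E' : Ideal R := Ideal.span {t ^ (M - 2 * c)}
  have hv0 : ∀ j, eval (0 : Fin n → R) (v j) ∈ E' := by
    intro j
    have hH0 : eval (0 : Fin n → R) (H j) = 0 := by
      have hle : Z ^ 2 ≤ RingHom.ker (eval (0 : Fin n → R)) := by
        refine (Ideal.pow_le_self two_ne_zero).trans (Ideal.span_le.2 ?_)
        rintro _ ⟨i, rfl⟩
        simp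
      exact hle (hHZ j)
    simp only [v, map_add, eval_C, eval_X, map_sum, map_mul, Pi.zero_apply, mul_zero, Finset.sum_const_zero,
      add_zero, hH0]
    exact Ideal.mem_span_singleton'.2 ⟨b j, mul_comm _ _⟩
  have hdet : IsUnit (Ideal.Quotient.mk E' (Matrix.of fun i j => eval (0 : Fin n → R) (pderiv j (v i))).det) := by
    have hH1 : ∀ i j, eval (0 : Fin n → R) (pderiv j (H i)) = 0 := by
      intro i j
      have := hHZ i
      rw [pow_two] at this
      have hz : ∀ q ∈ Z, eval (0 : Fin n → R) q = 0 := fun q hq => by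
        have hle : Z ≤ RingHom.ker (eval (0 : Fin n → R)) := Ideal.span_le.2 (by rintro _ ⟨k, rfl⟩; simp)
        exact hle hq
      refine Submodule.mul_induction_on this (fun p hp q hq => ?_) (fun p q hp hq => by rw [map_add, map_add, hp, hq, add_zero])
      rw [pderiv_mul, map_add, map_mul, map_mul, hz p hp, hz q hq, mul_zero, zero_mul, add_zero]
    rw [RingHom.map_det]
    have : (Ideal.Quotient.mk E').mapMatrix (Matrix.of fun i j => eval (0 : Fin n → R) (pderiv j (v i))) = 1 := by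
      refine Matrix.ext fun i j => ?_
      show Ideal.Quotient.mk E' (eval (0 : Fin n → R) (pderiv j (v i))) = _
      have hz : ∀ k, Ideal.Quotient.mk E' (t ^ (M - c) * w i k) = 0 := fun k =>
        Ideal.Quotient.eq_zero_iff_mem.2 (Ideal.mul_mem_right _ _ (Ideal.mem_span_singleton.2
          (pow_dvd_pow t (by omega))))
      rw [Matrix.one_apply]
      simp only [v, map_add, pderiv_C, map_zero, pderiv_X, map_sum, pderiv_C_mul, map_mul, eval_C, hH1, hz,
        zero_mul, Finset.sum_const_zero, add_zero, zero_add, Pi.single_apply]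
      split_ifs <;> simp_all
    rw [this, Matrix.det_one]
    exact isUnit_one
  obtain ⟨z, hz, hzE⟩ := Groth.Agent.Hensel.exists_root_of_isUnit_jacobian E' v 0 hv0 hdet
  let x : Fin n → R := fun i => x₀ i + t ^ c * z i
  have hxE : ∀ i, x i - x₀ i ∈ Ideal.span {t ^ (M - c)} := by
    intro i
    obtain ⟨q, hq⟩ := Ideal.mem_span_singleton'.1 (by simpa using hzE i : z i ∈ E')
    refine Ideal.mem_span_singleton'.2 ⟨q, ?_⟩
    simp only [x, add_sub_cancel_left, ← hq]
    rw [show M - c = c + (M - 2 * c) by omega, pow_add]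
    ring
  refine ⟨x, ?_, hxE⟩
  have hgx : ∀ j, aeval x (g j) = 0 := by
    intro j
    have h := congrArg (aeval (R := R) z) (hkey j)
    rw [← AlgHom.restrictScalars_apply A, comp_aeval_apply] at h
    have hfun : (fun i => (aeval (R := R) z).restrictScalars A ((y + d) i)) = x := by
      funext i
      simp [y, d, x]
    rw [hfun] at h
    rw [h]
    simp [aeval_eq_eval, hz]
  -- all equations vanish
  set Q : Ideal R := I.map (aeval x)
  have hQ : Q ≤ Ideal.span {t ^ (M - c)} := by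
    rw [Ideal.map_le_iff_le_comap]
    exact Sol.of_sub_mem (hx₀.mono (Ideal.span_singleton_le_span_singleton.2 (pow_dvd_pow t (by omega)))) hxE
  have hjac : Ideal.span {t ^ (M - 2 * c)} ≤ Ideal.jacobson ⊥ :=
    le_trans ((Ideal.span_singleton_le_iff_mem _).2 (J.pow_mem_of_mem haJ _ (by omega))) HenselianRing.jac
  have hL : Ideal.span {t ^ c} * Q ≤ Ideal.span {t ^ (M - 2 * c)} * (Ideal.span {t ^ c} * Q) := by
    have hsub : Ideal.span {t ^ c} * Q ≤ Q ^ 2 := by
      have : Ideal.span {t ^ c} * Q = (Ideal.span {C (a ^ c)} * I).map (aeval x) := by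
        rw [Ideal.map_mul, Ideal.map_span, Set.image_singleton, aeval_C, map_pow]
      rw [this, Ideal.map_le_iff_le_comap, Ideal.span_singleton_mul_le_iff]
      intro p hp
      show aeval x (C (a ^ c) * p) ∈ Q ^ 2
      have h := Ideal.mem_map_of_mem (aeval x) (hg2 p hp)
      rw [Ideal.map_pow] at h
      have h0 : aeval x (∑ j, pderiv j p * g j) = 0 := by simp [hgx]
      rwa [map_sub, h0, sub_zero] at h
    refine hsub.trans ?_
    rw [pow_two, ← mul_assoc, Ideal.span_singleton_mul_span_singleton, ← pow_add,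
      show M - 2 * c + c = M - c by omega]
    exact Ideal.mul_mono_left hQ
  intro p hp
  have hzero := eq_bot_of_mul_le hjac hL
  obtain ⟨u', hu'⟩ := Ideal.mem_span_singleton'.1 (hQ (Ideal.mem_map_of_mem (aeval x) hp))
  rw [Ideal.mem_bot]
  refine hk₀ (M - c) _ u' (by rw [← hu', mul_comm]) (by omega) c ?_
  rw [← Ideal.mem_bot, ← hzero]
  exact Ideal.mul_mem_mul (Ideal.mem_span_singleton_self _) (Ideal.mem_map_of_mem (aeval x) hp)

theorem exists_sol (s : Finset A) (hs : ∀ a ∈ s, ∃ c g, EtEq I a c g) :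
    ∀ (R : Type u) [CommRing R] [Algebra A R] [IsNoetherianRing R] (J : Ideal R) [HenselianRing R J]
      (_ : J = Ideal.span (algebraMap A R '' s)) (x : ℕ → Fin n → R) (_ : ∀ k, Sol I (J ^ k) (x k))
      (_ : ∀ k l, k ≤ l → ∀ i, x l i - x k i ∈ J ^ k) (N : ℕ),
      ∃ y, Sol I ⊥ y ∧ ∀ i, y i - x N i ∈ J ^ N := by
  classical
  induction s using Finset.induction with
  | empty =>
    intro R _ _ _ J _ hJ x hx hcomp N
    rw [Finset.coe_empty, Set.image_empty, Ideal.span_empty] at hJ
    subst hJ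
    refine ⟨x 1, by simpa using hx 1, fun i => ?_⟩
    rcases Nat.eq_zero_or_pos N with rfl | hN
    · simp
    · have h := hcomp 1 N hN i
      simp only [pow_one, Ideal.mem_bot, sub_eq_zero] at h
      rw [h, sub_self]
      exact zero_mem _
  | insert a s has ih =>
    intro R _ _ _ J _ hJ x hx hcomp N
    obtain ⟨c, g, hg⟩ := hs a (Finset.mem_insert_self a s)
    have hJ' : J = Ideal.span {algebraMap A R a} ⊔ Ideal.span (algebraMap A R '' s) := by
      rw [hJ, Finset.coe_insert, Set.image_insert_eq, Ideal.span_insert]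
    have haJ : algebraMap A R a ∈ J := hJ' ▸ Ideal.mem_sup_left (Ideal.mem_span_singleton_self _)
    obtain ⟨M₀, hM₀⟩ := exists_sol_step hg haJ
    set M := M₀ + N + c
    obtain ⟨hcM, hstep⟩ := hM₀ M (by omega)
    let L : Ideal R := Ideal.span {algebraMap A R a ^ M}
    let J' : Ideal (R ⧸ L) := Ideal.span (algebraMap A (R ⧸ L) '' s)
    have hJ'eq : J' = (Ideal.span (algebraMap A R '' s)).map (Ideal.Quotient.mk L) := by
      rw [Ideal.map_span, ← Set.image_comp]
      rfl
    haveI : HenselianRing (R ⧸ L) (J.map (Ideal.Quotient.mk L)) := Groth.Agent.Hensel.henselianRing_quotient L J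
    haveI : HenselianRing (R ⧸ L) J' := Groth.Agent.Hensel.henselianRing_of_le
      (J := J.map (Ideal.Quotient.mk L)) (hJ'eq ▸ Ideal.map_mono (hJ' ▸ le_sup_right))
    have hpow : ∀ k, (J ^ (M + k)).map (Ideal.Quotient.mk L) ≤ J' ^ k := by
      intro k
      rw [hJ'eq, ← Ideal.map_pow, Ideal.map_le_iff_le_comap, Ideal.comap_map_of_surjective _
        Ideal.Quotient.mk_surjective, ← RingHom.ker_eq_comap_bot, Ideal.mk_ker, hJ']
      rcases M.eq_zero_or_pos with hM | hM
      · have : L = ⊤ := by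
          show Ideal.span _ = _
          rw [hM, pow_zero, Ideal.span_singleton_one]
        simp [this]
      · refine (Ideal.sup_pow_add_le_pow_sup_pow (n := M) (m := k)).trans ?_
        rw [Ideal.span_singleton_pow, sup_comm]
    obtain ⟨y', hy', hy'N⟩ := ih (fun b hb => hs b (Finset.mem_insert_of_mem hb)) (R ⧸ L) J' rfl
      (fun k => Ideal.Quotient.mk L ∘ x (M + k))
      (fun k => (hx (M + k)).map (Ideal.Quotient.mkₐ A L) (hpow k))
      (fun k l hkl i => by
        have := hpow k (Ideal.mem_map_of_mem (Ideal.Quotient.mk L) (hcomp (M + k) (M + l) (by omega) i))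
        rwa [map_sub] at this) N
    choose y₀ hy₀ using fun i => Ideal.Quotient.mk_surjective (y' i)
    have hsol₀ : Sol I L y₀ := fun p hp => by
      rw [← Ideal.Quotient.eq_zero_iff_mem, ← Ideal.Quotient.mkₐ_eq_mk A, comp_aeval_apply,
        show (fun i => Ideal.Quotient.mkₐ A L (y₀ i)) = y' from funext hy₀]
      simpa using hy' p hp
    obtain ⟨z, hz, hzy⟩ := hstep y₀ hsol₀
    have hLN : L ≤ J ^ N := (Ideal.span_singleton_le_iff_mem _).2
      (Ideal.pow_le_pow_right (by omega) (Ideal.pow_mem_pow haJ M))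
    refine ⟨z, hz, fun i => ?_⟩
    have h1 : z i - y₀ i ∈ J ^ N := (Ideal.span_singleton_le_iff_mem _).2
      (Ideal.pow_le_pow_right (by omega) (Ideal.pow_mem_pow haJ (M - c))) (hzy i)
    have h2 : y₀ i - x (M + N) i ∈ J ^ N := by
      have h := hy'N i
      rw [← hy₀, Function.comp_apply, ← map_sub, hJ'eq, ← Ideal.map_pow, ← Ideal.mem_comap,
        Ideal.comap_map_of_surjective _ Ideal.Quotient.mk_surjective, ← RingHom.ker_eq_comap_bot, Ideal.mk_ker] at h
      exact (sup_le (Ideal.pow_right_mono (hJ' ▸ le_sup_right) N) hLN) h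
    have h3 := hcomp N (M + N) (by omega) i
    have := add_mem (add_mem h1 h2) h3
    convert! this using 1
    ring

/-- rigidity -/
theorem exists_rigid [IsNoetherianRing R] (s : Finset A) (hs : ∀ a ∈ s, ∃ c g, EtEq I a c g) (J : Ideal R)
    [HenselianRing R J] (hJ : J = Ideal.span (algebraMap A R '' s)) :
    ∃ m : ℕ, ∀ y y' : Fin n → R, Sol I ⊥ y → Sol I ⊥ y' → (∀ i, y' i - y i ∈ J ^ m) → y = y' := by
  classical
  choose! c g hg using hs
  let K : Ideal R := Ideal.span ((fun a => algebraMap A R a ^ c a) '' s)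
  obtain ⟨e, he⟩ : ∃ e, J ^ e ≤ K := by
    refine Ideal.exists_pow_le_of_le_radical_of_fg ?_ (IsNoetherian.noetherian J)
    rw [hJ, Ideal.span_le]
    rintro _ ⟨a, ha, rfl⟩
    exact ⟨c a, Ideal.subset_span ⟨a, ha, rfl⟩⟩
  let T : Ideal R := (⊥ : Ideal R).colon ↑(J ^ e)
  obtain ⟨k, hk⟩ := J.exists_pow_inf_eq_pow_smul T
  refine ⟨k + e + 1, fun y y' hy hy' hd => ?_⟩
  let d : Fin n → R := y' - y
  set 𝔟 : Ideal R := Ideal.span (Set.range d)
  have hb : 𝔟 ≤ J ^ (k + e + 1) := Ideal.span_le.2 (by rintro _ ⟨i, rfl⟩; exact hd i)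
  have hK : K * 𝔟 ≤ 𝔟 ^ 2 := by
    rw [Ideal.span_mul_span', Ideal.span_le]
    rintro _ ⟨_, ⟨a, ha, rfl⟩, _, ⟨i, rfl⟩, rfl⟩
    obtain ⟨hgI, hgJ, -⟩ := hg a ha
    have h := taylor y d (g a i)
    rw [show y + d = y' from add_sub_cancel y y', (Ideal.mem_bot).1 (hy' _ (hgI i)), (Ideal.mem_bot).1 (hy _ (hgI i))] at h
    have hsum : ∑ j, aeval y (pderiv j (g a i)) * d j = algebraMap A R a ^ c a * d i := by
      rw [Finset.sum_eq_single i]
      · have := (Ideal.mem_bot).1 (hy _ (hgJ i i))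
        rw [if_pos rfl, map_sub, sub_eq_zero, aeval_C, map_pow] at this
        rw [this]
      · intro j _ hji
        have := (Ideal.mem_bot).1 (hy _ (hgJ i j))
        rw [if_neg hji, sub_zero] at this
        rw [this, zero_mul]
      · simp
    rw [hsum, sub_self, zero_sub, neg_mem_iff] at h
    exact h
  have hL : J ^ e * 𝔟 = ⊥ := by
    refine eq_bot_of_mul_le (K := J ^ (k + 1)) ((Ideal.pow_le_self (by omega)).trans HenselianRing.jac) ?_
    calc J ^ e * 𝔟 ≤ K * 𝔟 := Ideal.mul_mono_left he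
      _ ≤ 𝔟 ^ 2 := hK
      _ ≤ J ^ (k + e + 1) * 𝔟 := by rw [pow_two]; exact Ideal.mul_mono_left hb
      _ = J ^ (k + 1) * (J ^ e * 𝔟) := by rw [← mul_assoc, ← pow_add]; congr 2; omega
  have hbT : 𝔟 ≤ T := fun x hx => Submodule.mem_colon.2 fun p hp => by
    rw [smul_eq_mul, mul_comm, ← hL]
    exact Ideal.mul_mem_mul hp hx
  have h0 : 𝔟 = ⊥ := by
    refine le_bot_iff.1 (fun x hx => ?_)
    have hx' : x ∈ J ^ (k + e + 1) • (⊤ : Submodule R R) ⊓ T := ⟨by
      rw [smul_eq_mul, ← Ideal.one_eq_top, mul_one]; exact hb hx, hbT hx⟩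
    rw [hk (k + e + 1) (by omega)] at hx'
    have hle : J ^ (k + e + 1 - k) • (J ^ k • (⊤ : Submodule R R) ⊓ T) ≤ J ^ e * T := by
      rw [smul_eq_mul]
      exact Ideal.mul_mono (Ideal.pow_le_pow_right (by omega)) inf_le_right
    have h : J ^ e * T ≤ ⊥ := Ideal.mul_le.2 fun p hp q hq => by
      have := Submodule.mem_colon.1 hq p hp
      rwa [smul_eq_mul, mul_comm] at this
    exact h (hle hx')
  funext i
  have : d i ∈ 𝔟 := Ideal.subset_span ⟨i, rfl⟩
  rw [h0, Ideal.mem_bot] at this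
  exact (sub_eq_zero.1 this).symm

end Groth.Agent.RigEtale7
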