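import Mathlib

/-!
Equations for algebras étale away from an element.
-/

open MvPolynomial

universe u v

namespace Groth.Agent.RigEtale7

variable {A : Type u} [CommRing A]

/-- first order expansion -/
theorem taylor {S : Type v} [CommRing S] [Algebra A S] {n : ℕ} (y d : Fin n → S) (p : MvPolynomial (Fin n) A) :
    aeval (y + d) p - aeval y p - ∑ j, aeval y (pderiv j p) * d j ∈ Ideal.span (Set.range d) ^ 2 := by
  induction p using MvPolynomial.induction_on with
  | C r => simp
  | add p q hp hq =>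
    have := add_mem hp hq
    convert! this using 1
    simp only [map_add, add_mul, Finset.sum_add_distrib]
    ring
  | mul_X p i hp =>
    have hd : ∀ j, d j ∈ Ideal.span (Set.range d) := fun j => Ideal.subset_span ⟨j, rfl⟩
    have h1 : ∑ j, aeval y (pderiv j (p * X i)) * d j =
        (∑ j, aeval y (pderiv j p) * d j) * y i + aeval y p * d i := by
      simp only [pderiv_mul, map_add, map_mul, aeval_X, add_mul, Finset.sum_add_distrib, Finset.sum_mul]
      congr 1
      · exact Finset.sum_congr rfl fun j _ => by ring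
      · rw [Finset.sum_eq_single i] <;> simp +contextual [pderiv_X, Pi.single_apply, eq_comm]
    have h2 : aeval (y + d) p - aeval y p ∈ Ideal.span (Set.range d) := by
      have h3 : (∑ j, aeval y (pderiv j p) * d j) ∈ Ideal.span (Set.range d) :=
        Ideal.sum_mem _ fun j _ => Ideal.mul_mem_left _ _ (hd j)
      have := add_mem (Ideal.pow_le_self two_ne_zero hp) h3
      simpa using this
    have := add_mem (Ideal.mul_mem_right (y i) _ hp)
      (show (aeval (y + d) p - aeval y p) * d i ∈ Ideal.span (Set.range d) ^ 2 by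
        rw [pow_two]; exact Ideal.mul_mem_mul h2 (hd i))
    convert! this using 1
    rw [map_mul, map_mul, aeval_X, aeval_X, h1, Pi.add_apply]
    ring

/-- equations `g` in `I` whose Jacobian is `a ^ c` modulo `I` and which generate `I` up to `a ^ c`
and up to `I ^ 2` -/
def EtEq {n : ℕ} (I : Ideal (MvPolynomial (Fin n) A)) (a : A) (c : ℕ) (g : Fin n → MvPolynomial (Fin n) A) :
    Prop :=
  (∀ j, g j ∈ I) ∧ (∀ j k, pderiv k (g j) - (if k = j then C (a ^ c) else 0) ∈ I) ∧
    ∀ p ∈ I, C (a ^ c) * p - ∑ j, pderiv j p * g j ∈ I ^ 2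

variable {n : ℕ} {B : Type v} [CommRing B] [Algebra A B]

theorem exists_pow_mul_mem {S : Type*} [CommRing S] [Algebra A S] {T : Type*} [CommRing T]
    [Algebra A T] (f : S →ₐ[A] T) {a : A} {La : Type*} [CommRing La] [Algebra T La]
    [IsLocalization.Away (algebraMap A T a) La] {s : S} (h : algebraMap T La (f s) = 0) :
    ∃ m : ℕ, f (algebraMap A S (a ^ m) * s) = 0 := by
  obtain ⟨⟨_, m, rfl⟩, hm⟩ := (IsLocalization.map_eq_zero_iff (Submonoid.powers (algebraMap A T a)) La _).1 h
  exact ⟨m, by rw [map_mul, map_pow, map_pow, AlgHom.commutes]; exact hm⟩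

theorem exists_etEq [IsNoetherianRing A] (π : MvPolynomial (Fin n) A →ₐ[A] B) (hπ : Function.Surjective π) (a : A)
    [hB : Algebra.Etale A (Localization.Away (algebraMap A B a))] :
    ∃ c g, EtEq (RingHom.ker π) a c g := by
  set I : Ideal (MvPolynomial (Fin n) A) := RingHom.ker π
  let R₂ := MvPolynomial (Fin n) A ⧸ I ^ 2
  let mk₂ : MvPolynomial (Fin n) A →ₐ[A] R₂ := Ideal.Quotient.mkₐ A _
  let Ba := Localization.Away (algebraMap A B a)
  let Qa := Localization.Away (algebraMap A R₂ a)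
  let q : MvPolynomial (Fin n) A →ₐ[A] Qa := (IsScalarTower.toAlgHom A R₂ Qa).comp mk₂
  let πa : MvPolynomial (Fin n) A →ₐ[A] Ba := (IsScalarTower.toAlgHom A B Ba).comp π
  let f₀ : R₂ →ₐ[A] B := Ideal.Quotient.liftₐ _ π fun x hx => Ideal.pow_le_self two_ne_zero hx
  let ρ : Qa →ₐ[A] Ba := IsLocalization.liftAlgHom (M := Submonoid.powers (algebraMap A R₂ a))
    (f := (IsScalarTower.toAlgHom A B Ba).comp f₀) (by
      rintro ⟨_, m, rfl⟩
      rw [map_pow, AlgHom.comp_apply, AlgHom.commutes]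
      exact (IsLocalization.Away.algebraMap_isUnit (algebraMap A B a)).pow m)
  have hρ : ∀ p, ρ (q p) = πa p := fun p => by
    show ρ (algebraMap R₂ Qa (mk₂ p)) = _
    simp [ρ, f₀, mk₂, πa]
    rfl
  have hqsurj : ∀ x : Qa, ∃ p m, x * q (C (a ^ m)) = q p := by
    intro x
    obtain ⟨⟨r, ⟨_, m, rfl⟩⟩, hx⟩ := IsLocalization.surj (Submonoid.powers (algebraMap A R₂ a)) x
    obtain ⟨p, rfl⟩ := Ideal.Quotient.mkₐ_surjective A (I ^ 2) r
    refine ⟨p, m, ?_⟩
    show _ = algebraMap R₂ Qa (mk₂ p)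
    rw [← hx]
    congr 1
    show algebraMap R₂ Qa (mk₂ (C (a ^ m))) = _
    rw [← MvPolynomial.algebraMap_eq, AlgHom.commutes, map_pow]
  have hker : RingHom.ker ρ ≤ I.map q := by
    intro x hx
    obtain ⟨p, m, hp⟩ := hqsurj x
    have h0 : πa p = 0 := by rw [← hρ, ← hp, map_mul, RingHom.mem_ker.1 hx, zero_mul]
    obtain ⟨m', hm'⟩ := exists_pow_mul_mem π (a := a) (La := Ba) h0
    have hu : IsUnit (q (C (a ^ (m' + m)))) := by
      show IsUnit (algebraMap R₂ Qa (mk₂ (C (a ^ (m' + m)))))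
      rw [← MvPolynomial.algebraMap_eq, AlgHom.commutes, map_pow, map_pow]
      exact (IsLocalization.Away.algebraMap_isUnit (algebraMap A R₂ a)).pow _
    refine (Ideal.mul_unit_mem_iff_mem _ hu).1 ?_
    have : x * q (C (a ^ (m' + m))) = q (algebraMap A _ (a ^ m') * p) := by
      rw [map_mul q, ← hp, MvPolynomial.algebraMap_eq, pow_add, map_mul, map_mul]
      ring
    rw [this]
    exact Ideal.mem_map_of_mem _ (RingHom.mem_ker.2 hm')
  have hsq : RingHom.ker ρ ^ 2 = ⊥ := by
    refine le_bot_iff.1 ((Ideal.pow_right_mono hker 2).trans ?_)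
    rw [← Ideal.map_pow, Ideal.map_le_iff_le_comap]
    intro p hp
    show algebraMap R₂ Qa (mk₂ p) = 0
    rw [show mk₂ p = 0 from Ideal.Quotient.eq_zero_iff_mem.2 hp, map_zero]
  have hρsurj : Function.Surjective ρ := by
    intro y
    obtain ⟨⟨b, ⟨_, m, rfl⟩⟩, hy⟩ := IsLocalization.surj (Submonoid.powers (algebraMap A B a)) y
    obtain ⟨p, rfl⟩ := hπ b
    have hu : IsUnit (q (C (a ^ m))) := by
      show IsUnit (algebraMap R₂ Qa (mk₂ (C (a ^ m))))
      rw [← MvPolynomial.algebraMap_eq, AlgHom.commutes, map_pow, map_pow]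
      exact (IsLocalization.Away.algebraMap_isUnit (algebraMap A R₂ a)).pow _
    refine ⟨q p * (hu.unit⁻¹ : Qaˣ), ?_⟩
    refine (hu.map ρ).mul_right_cancel ?_
    rw [← map_mul, mul_assoc, IsUnit.val_inv_mul, mul_one, hρ, hρ]
    show algebraMap B Ba (π p) = y * algebraMap B Ba (π (C (a ^ m)))
    rw [← hy, ← MvPolynomial.algebraMap_eq, AlgHom.commutes]
    simp only [map_pow]
  let σ : Ba →ₐ[A] Qa := Algebra.FormallySmooth.liftOfSurjective (AlgHom.id A Ba) ρ hρsurj ⟨2, hsq⟩
  have hσ : ∀ y, ρ (σ y) = y := fun y =>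
    Algebra.FormallySmooth.liftOfSurjective_apply (AlgHom.id A Ba) ρ hρsurj ⟨2, hsq⟩ y
  let δ : MvPolynomial (Fin n) A → Qa := fun p => q p - σ (πa p)
  have hδk : ∀ p, δ p ∈ RingHom.ker ρ := fun p => by
    rw [RingHom.mem_ker, map_sub, hσ, hρ, sub_self]
  have hmul0 : ∀ x ∈ RingHom.ker ρ, ∀ y ∈ RingHom.ker ρ, x * y = 0 := fun x hx y hy => by
    have := Ideal.mul_mem_mul hx hy
    rwa [← pow_two, hsq, Ideal.mem_bot] at this
  have hδ : ∀ p, δ p = ∑ j, q (pderiv j p) * δ (X j) := by
    intro p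
    induction p using MvPolynomial.induction_on with
    | C r =>
      have : δ (C r) = 0 := by
        simp only [δ]
        rw [← MvPolynomial.algebraMap_eq, AlgHom.commutes, AlgHom.commutes, AlgHom.commutes, sub_self]
      simp [this]
    | add p p' hp hp' =>
      have : δ (p + p') = δ p + δ p' := by simp only [δ, map_add]; ring
      simp only [this, hp, hp', map_add, add_mul, Finset.sum_add_distrib]
    | mul_X p i hp =>
      have h1 : δ (p * X i) = δ p * q (X i) + q p * δ (X i) := by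
        have := hmul0 _ (hδk p) _ (hδk (X i))
        simp only [δ, map_mul] at this ⊢
        linear_combination -this
      rw [h1, hp, Finset.sum_mul]
      simp only [pderiv_mul, map_add, map_mul, add_mul, Finset.sum_add_distrib]
      congr 1
      · exact Finset.sum_congr rfl fun j _ => by ring
      · rw [Finset.sum_eq_single i] <;> simp +contextual [pderiv_X, Pi.single_apply, eq_comm]
  have hg₀ : ∀ j, ∃ (g : MvPolynomial (Fin n) A) (m : ℕ), g ∈ I ∧ δ (X j) * q (C (a ^ m)) = q g := by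
    intro j
    obtain ⟨p, m, hp⟩ := hqsurj (δ (X j))
    have h0 : πa p = 0 := by rw [← hρ, ← hp, map_mul, RingHom.mem_ker.1 (hδk _), zero_mul]
    obtain ⟨m', hm'⟩ := exists_pow_mul_mem π (a := a) (La := Ba) h0
    refine ⟨C (a ^ m') * p, m' + m, ?_, ?_⟩
    · exact RingHom.mem_ker.2 (by rw [← MvPolynomial.algebraMap_eq]; exact hm')
    · rw [map_mul q, ← hp, pow_add, map_mul, map_mul]; ring
  choose g₀ m hg₀I hg₀ using hg₀
  set c₀ := ∑ j, m j
  let g₁ : Fin n → MvPolynomial (Fin n) A := fun j => C (a ^ (c₀ - m j)) * g₀ j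
  have hg₁I : ∀ j, g₁ j ∈ I := fun j => Ideal.mul_mem_left _ _ (hg₀I j)
  have hg₁ : ∀ j, δ (X j) * q (C (a ^ c₀)) = q (g₁ j) := fun j => by
    simp only [g₁]
    rw [map_mul q, ← hg₀, show a ^ c₀ = a ^ (c₀ - m j) * a ^ m j by
      rw [← pow_add, Nat.sub_add_cancel (Finset.single_le_sum (fun k _ => Nat.zero_le (m k)) (Finset.mem_univ j))],
      map_mul, map_mul]
    ring
  have hp₀ : ∀ p ∈ I, ∃ k : ℕ, C (a ^ k) * (C (a ^ c₀) * p - ∑ j, pderiv j p * g₁ j) ∈ I ^ 2 := by
    intro p hp
    have hπp : πa p = 0 := by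
      show algebraMap B Ba (π p) = 0
      rw [RingHom.mem_ker.1 hp, map_zero]
    have h := hδ p
    simp only [δ] at h
    rw [hπp, map_zero, sub_zero] at h
    have h0 : q (C (a ^ c₀) * p - ∑ j, pderiv j p * g₁ j) = 0 := by
      rw [map_sub, map_mul, h, map_sum, Finset.mul_sum, sub_eq_zero]
      refine Finset.sum_congr rfl fun j _ => ?_
      rw [map_mul, ← hg₁]
      ring
    obtain ⟨k, hk⟩ := exists_pow_mul_mem mk₂ (a := a) (La := Qa) h0
    exact ⟨k, Ideal.Quotient.eq_zero_iff_mem.1 (by rw [← MvPolynomial.algebraMap_eq]; exact hk)⟩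
  obtain ⟨s, hs⟩ := (inferInstance : IsNoetherian (MvPolynomial (Fin n) A) (MvPolynomial (Fin n) A)).noetherian I
  choose! k hk using hp₀
  set k₀ := ∑ p ∈ s, k p
  set c₁ := k₀ + c₀
  let g₂ : Fin n → MvPolynomial (Fin n) A := fun j => C (a ^ k₀) * g₁ j
  have hg₂I : ∀ j, g₂ j ∈ I := fun j => Ideal.mul_mem_left _ _ (hg₁I j)
  have hI2 : ∀ p ∈ I, C (a ^ c₁) * p - ∑ j, pderiv j p * g₂ j ∈ I ^ 2 := by
    intro p hp
    have hp' : p ∈ Submodule.span (MvPolynomial (Fin n) A) (s : Set (MvPolynomial (Fin n) A)) := hs.symm ▸ hp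
    clear hp
    induction hp' using Submodule.span_induction with
    | mem p hp =>
      have hpI : p ∈ I := hs ▸ Submodule.subset_span hp
      have := Ideal.mul_mem_left (I ^ 2) (C (a ^ (k₀ - k p))) (hk p hpI)
      convert! this using 1
      rw [← mul_assoc, ← map_mul, ← pow_add, Nat.sub_add_cancel (Finset.single_le_sum (fun x _ => Nat.zero_le (k x)) hp),
        mul_sub, ← mul_assoc, ← map_mul, ← pow_add, Finset.mul_sum]
      congr 1
      exact Finset.sum_congr rfl fun j _ => by simp only [g₂]; ring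
    | zero => simp
    | add p p' _ _ hp hp' =>
      have := add_mem hp hp'
      convert! this using 1
      simp only [map_add, add_mul, Finset.sum_add_distrib]; ring
    | smul r p hpmem hp =>
      have hpI : p ∈ I := hs ▸ hpmem
      have h2 : (∑ j, pderiv j r * g₂ j) * p ∈ I ^ 2 := by
        rw [pow_two]
        exact Ideal.mul_mem_mul (Ideal.sum_mem _ fun j _ => Ideal.mul_mem_left _ _ (hg₂I j)) hpI
      have := sub_mem (Ideal.mul_mem_left _ r hp) h2
      convert! this using 1
      rw [smul_eq_mul]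
      simp only [pderiv_mul, add_mul, Finset.sum_add_distrib, Finset.sum_mul, mul_sub, Finset.mul_sum]
      rw [show ∑ j, pderiv j r * p * g₂ j = ∑ j, pderiv j r * g₂ j * p from
          Finset.sum_congr rfl fun j _ => by ring,
        show ∑ j, r * pderiv j p * g₂ j = ∑ j, r * (pderiv j p * g₂ j) from
          Finset.sum_congr rfl fun j _ => by ring]
      ring
  have hjac : ∀ j l, ∃ e : ℕ, C (a ^ e) * (pderiv l (g₂ j) - (if l = j then C (a ^ c₁) else 0)) ∈ I := by
    intro j l
    let v : Fin n → MvPolynomial (Fin n) A := fun i => pderiv l (g₂ i) - if l = i then C (a ^ c₁) else 0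
    have hv : ∀ p ∈ I, ∑ i, pderiv i p * v i ∈ I := by
      intro p hp
      have h1 : ∀ q ∈ I ^ 2, pderiv l q ∈ I := by
        intro q hq
        rw [pow_two] at hq
        refine Submodule.mul_induction_on hq (fun x hx y hy => ?_) (fun x y hx hy => ?_)
        · rw [pderiv_mul]
          exact add_mem (Ideal.mul_mem_left _ _ hy) (Ideal.mul_mem_right _ _ hx)
        · rw [map_add]; exact add_mem hx hy
      have h2 := h1 _ (hI2 p hp)
      rw [map_sub, pderiv_C_mul, map_sum] at h2
      simp only [pderiv_mul, Finset.sum_add_distrib] at h2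
      have h3 : (∑ j, pderiv l (pderiv j p) * g₂ j) ∈ I :=
        Ideal.sum_mem _ fun j _ => Ideal.mul_mem_left _ _ (hg₂I j)
      have := neg_mem (add_mem h2 h3)
      convert! this using 1
      simp only [v, mul_sub, mul_ite, mul_zero, Finset.sum_sub_distrib, Finset.sum_ite_eq, Finset.mem_univ, if_true]
      ring
    let T := TrivSqZeroExt Ba Ba
    let y : Fin n → T := fun i => TrivSqZeroExt.inl (πa (X i))
    let d : Fin n → T := fun i => TrivSqZeroExt.inr (πa (v i))
    let inlA : Ba →ₐ[A] T := (TrivSqZeroExt.inlAlgHom Ba Ba Ba).restrictScalars A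
    have hy : ∀ p, aeval y p = inlA (πa p) := fun p =>
      (AlgHom.congr_fun (MvPolynomial.algHom_ext (f := aeval y) (g := inlA.comp πa) fun i => by
        simp [y, inlA]) p)
    have hd2 : Ideal.span (Set.range d) ^ 2 = ⊥ := by
      rw [pow_two, Ideal.span_mul_span', Ideal.span_eq_bot]
      rintro _ ⟨_, ⟨i, rfl⟩, _, ⟨i', rfl⟩, rfl⟩
      exact TrivSqZeroExt.inr_mul_inr _ _ _
    have hval : ∀ p, aeval (y + d) p = inlA (πa p) + TrivSqZeroExt.inr (∑ i, πa (pderiv i p) * πa (v i)) := by
      intro p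
      have h := taylor y d p
      rw [hd2, Ideal.mem_bot, sub_eq_zero] at h
      rw [sub_eq_iff_eq_add.1 h, hy, add_comm]
      congr 1
      rw [← TrivSqZeroExt.inrHom_apply (R := Ba), map_sum]
      refine Finset.sum_congr rfl fun i _ => ?_
      rw [hy, TrivSqZeroExt.inrHom_apply]
      show TrivSqZeroExt.inl _ * TrivSqZeroExt.inr _ = _
      rw [TrivSqZeroExt.inl_mul_inr, smul_eq_mul]
    let φ₀ : B →ₐ[A] T := (Ideal.Quotient.liftₐ I (aeval (y + d)) fun p hp => by
      have h0 : ∀ q ∈ I, πa q = 0 := fun q hq => by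
        show algebraMap B Ba (π q) = 0
        rw [RingHom.mem_ker.1 hq, map_zero]
      rw [hval, h0 p hp, map_zero, zero_add]
      simp only [← map_mul, ← map_sum]
      rw [h0 _ (hv p hp), TrivSqZeroExt.inr_zero]).comp
        (Ideal.quotientKerAlgEquivOfSurjective hπ).symm.toAlgHom
    have hφ₀ : ∀ p, φ₀ (π p) = aeval (y + d) p := fun p => by
      have : (Ideal.quotientKerAlgEquivOfSurjective hπ).symm (π p) = Ideal.Quotient.mk I p :=
        (AlgEquiv.symm_apply_eq _).2 rfl
      simp [φ₀, this]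
    let φ : Ba →ₐ[A] T := IsLocalization.liftAlgHom (M := Submonoid.powers (algebraMap A B a)) (f := φ₀) (by
      rintro ⟨_, e, rfl⟩
      rw [map_pow, AlgHom.commutes, IsScalarTower.algebraMap_apply A Ba T]
      refine (IsUnit.map _ ?_).pow e
      rw [IsScalarTower.algebraMap_apply A B Ba]
      exact IsLocalization.Away.algebraMap_isUnit (algebraMap A B a))
    have hnil : IsNilpotent (RingHom.ker (TrivSqZeroExt.fstHom A Ba Ba)) :=
      ⟨2, by
        refine le_bot_iff.1 (((sq (RingHom.ker (TrivSqZeroExt.fstHom A Ba Ba))).le).trans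
          (Ideal.mul_le.2 fun x hx y hy => ?_))
        rw [RingHom.mem_ker] at hx hy
        change x.fst = 0 at hx
        change y.fst = 0 at hy
        rw [Ideal.mem_bot]
        ext <;> simp [hx, hy]⟩
    have hfst : (TrivSqZeroExt.fstHom A Ba Ba).comp φ = (TrivSqZeroExt.fstHom A Ba Ba).comp inlA := by
      refine IsLocalization.algHom_ext (Submonoid.powers (algebraMap A B a)) ?_
      ext b
      obtain ⟨p, rfl⟩ := hπ b
      show (φ (algebraMap B Ba (π p))).fst = (inlA (algebraMap B Ba (π p))).fst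
      have : φ (algebraMap B Ba (π p)) = φ₀ (π p) := IsLocalization.lift_eq _ _
      rw [this, hφ₀, hval, TrivSqZeroExt.fst_add, TrivSqZeroExt.fst_inr, add_zero]
      rfl
    have heq : φ = inlA := Algebra.FormallyUnramified.ext' _ hnil φ inlA (AlgHom.congr_fun hfst)
    have h4 : φ (πa (X j)) = inlA (πa (X j)) := by rw [heq]
    have : φ (algebraMap B Ba (π (X j))) = φ₀ (π (X j)) := IsLocalization.lift_eq _ _
    rw [show πa (X j) = algebraMap B Ba (π (X j)) from rfl, this, hφ₀, aeval_X] at h4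
    have h5 := congrArg TrivSqZeroExt.snd h4
    simp [y, d, inlA] at h5
    obtain ⟨e, he⟩ := exists_pow_mul_mem π (a := a) (La := Ba) h5
    exact ⟨e, RingHom.mem_ker.2 (by rw [← MvPolynomial.algebraMap_eq]; exact he)⟩
  choose e he using hjac
  set e₀ := ∑ j, ∑ l, e j l
  refine ⟨e₀ + c₁, fun j => C (a ^ e₀) * g₂ j, fun j => Ideal.mul_mem_left _ _ (hg₂I j), fun j l => ?_,
    fun p hp => ?_⟩
  · have hle : e j l ≤ e₀ := (Finset.single_le_sum (fun x _ => Nat.zero_le (e j x)) (Finset.mem_univ l)).trans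
      (Finset.single_le_sum (f := fun x => ∑ l, e x l) (fun x _ => Nat.zero_le _) (Finset.mem_univ j))
    have := Ideal.mul_mem_left I (C (a ^ (e₀ - e j l))) (he j l)
    convert! this using 1
    rw [← mul_assoc, ← map_mul, ← pow_add, Nat.sub_add_cancel hle, pderiv_C_mul, mul_sub]
    split_ifs with h
    · rw [← map_mul, ← pow_add]
    · rw [mul_zero]
  · have := Ideal.mul_mem_left _ (C (a ^ e₀)) (hI2 p hp)
    convert! this using 1
    rw [mul_sub, Finset.mul_sum, ← mul_assoc, ← map_mul, ← pow_add]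
    congr 1
    exact Finset.sum_congr rfl fun j _ => by ring

end Groth.Agent.RigEtale7
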