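import Groth.Agent.RigEtale7.Approx
import Groth.Agent.Hensel.NoethPair

/-!
Maps to completions of algebras étale outside of an ideal come from the henselization.
-/

open MvPolynomial

universe u

namespace Groth.Agent.RigEtale7

theorem existsUnique_to_henselization (A : Type u) [CommRing A] [IsNoetherianRing A] (I : Ideal A)
    (B : Type u) [CommRing B] [Algebra A B] [Algebra.FiniteType A B]
    (hB : ∀ a ∈ I, Algebra.Etale A (Localization.Away (algebraMap A B a)))
    (C : Type u) [CommRing C] [Algebra A C] [IsNoetherianRing C]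
    (Ch : Type u) [CommRing Ch] [Algebra C Ch] [Algebra A Ch] [IsScalarTower A C Ch]
    (hCh : Hens2.IsPairHenselization C (I.map (algebraMap A C)) Ch)
    (φ : (AdicCompletion (I.map (algebraMap A B)) B) →ₐ[A] (AdicCompletion (I.map (algebraMap A C)) C)) :
    ∃! ψ : B →ₐ[A] Ch, ∀ (n : ℕ) (b : B), ∃ c : C, ψ b - algebraMap C Ch c ∈ (I.map (algebraMap A Ch)) ^ n ∧
      AdicCompletion.eval (I.map (algebraMap A C)) C n (φ (AdicCompletion.of (I.map (algebraMap A B)) B b)) =
        Submodule.Quotient.mk c := by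
  classical
  haveI : IsNoetherianRing Ch := Groth.Agent.Hensel.isNoetherianRing_of_isPairHenselization _ hCh
  set J := I.map (algebraMap A Ch) with hJdef
  have hJC : (I.map (algebraMap A C)).map (algebraMap C Ch) = J := by
    rw [Ideal.map_map, ← IsScalarTower.algebraMap_eq]
  haveI : HenselianRing Ch J := hJC ▸ hCh.1
  obtain ⟨s, hs⟩ := (inferInstance : IsNoetherian A A).noetherian I
  have hJspan : J = Ideal.span (algebraMap A Ch '' s) := by
    rw [hJdef, ← hs]; exact Ideal.map_span _ _
  obtain ⟨n, π, hπ⟩ := Algebra.FiniteType.iff_quotient_mvPolynomial''.1 (inferInstance : Algebra.FiniteType A B)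
  have hdata : ∀ a ∈ s, ∃ c g, EtEq (RingHom.ker π) a c g := fun a ha => by
    haveI := hB a (hs ▸ Submodule.subset_span ha)
    exact exists_etEq π hπ a
  let ev : ∀ k, B →ₐ[A] C ⧸ (I.map (algebraMap A C)) ^ k := fun k =>
    ((AdicCompletion.evalₐ (I.map (algebraMap A C)) k).restrictScalars A).comp (φ.comp
      (IsScalarTower.toAlgHom A B (AdicCompletion (I.map (algebraMap A B)) B)))
  have hev : ∀ k l (h : k ≤ l) (b : B), Ideal.Quotient.factor (Ideal.pow_le_pow_right h) (ev l b) = ev k b := by
    intro k l h b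
    show Ideal.Quotient.factor _ (AdicCompletion.evalₐ (I.map (algebraMap A C)) l (φ _)) = AdicCompletion.evalₐ (I.map (algebraMap A C)) k (φ _)
    generalize φ ((IsScalarTower.toAlgHom A B (AdicCompletion (I.map (algebraMap A B)) B) : B →+* _) b) = ξ
    induction ξ using AdicCompletion.induction_on with
    | _ w =>
      rw [AdicCompletion.evalₐ_mk, AdicCompletion.evalₐ_mk, Ideal.Quotient.factor_mk, Ideal.Quotient.eq]
      have := (SModEq.sub_mem).1 (w.2 h)
      rw [smul_eq_mul, ← Ideal.one_eq_top, mul_one] at this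
      rw [← neg_mem_iff, neg_sub]
      exact this
  choose c hc using fun k i => Ideal.Quotient.mk_surjective (ev k (π (X i)))
  have hcp : ∀ k p, Ideal.Quotient.mk ((I.map (algebraMap A C)) ^ k) (aeval (c k) p) = ev k (π p) := fun k p => by
    have : (Ideal.Quotient.mkₐ A ((I.map (algebraMap A C)) ^ k)).comp (aeval (c k)) = (ev k).comp π :=
      MvPolynomial.algHom_ext fun i => by simp [hc]
    exact AlgHom.congr_fun this p
  have hcSol : ∀ k, Sol (RingHom.ker π) ((I.map (algebraMap A C)) ^ k) (c k) := fun k p hp => by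
    rw [← Ideal.Quotient.eq_zero_iff_mem, hcp, RingHom.mem_ker.1 hp, map_zero]
  have hccomp : ∀ k l, k ≤ l → ∀ i, c l i - c k i ∈ (I.map (algebraMap A C)) ^ k := fun k l h i => by
    rw [← Ideal.Quotient.eq, hc, ← hev k l h, ← hc l, Ideal.Quotient.factor_mk]
  let f : C →ₐ[A] Ch := IsScalarTower.toAlgHom A C Ch
  have hfJ : ∀ k, ((I.map (algebraMap A C)) ^ k).map f ≤ J ^ k := fun k => by
    rw [Ideal.map_pow]
    exact Ideal.pow_right_mono (le_of_eq hJC) k
  have hfmem : ∀ k z, z ∈ (I.map (algebraMap A C)) ^ k → algebraMap C Ch z ∈ J ^ k := fun k z hz =>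
    hfJ k (Ideal.mem_map_of_mem f hz)
  let x : ℕ → Fin n → Ch := fun k i => algebraMap C Ch (c k i)
  have hxcomp : ∀ k l, k ≤ l → ∀ i, x l i - x k i ∈ J ^ k := fun k l h i => by
    simp only [x, ← map_sub]; exact hfmem k _ (hccomp k l h i)
  have hxSol : ∀ k, Sol (RingHom.ker π) (J ^ k) (x k) := fun k => (hcSol k).map f (hfJ k)
  obtain ⟨m, hm⟩ := exists_rigid (R := Ch) s hdata J hJspan
  obtain ⟨y, hy, hyN⟩ := exists_sol s hdata Ch J hJspan x hxSol hxcomp m
  have hyall : ∀ k i, y i - x k i ∈ J ^ k := by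
    intro k i
    obtain ⟨y', hy', hy'N⟩ := exists_sol s hdata Ch J hJspan x hxSol hxcomp (max k m)
    obtain rfl : y = y' := by
      refine hm y y' hy hy' fun i => ?_
      have h1 := Ideal.pow_le_pow_right (I := J) (le_max_right k m) (hy'N i)
      have h2 := hxcomp m (max k m) (le_max_right k m) i
      have := sub_mem (add_mem h1 h2) (hyN i)
      convert! this using 1
      ring
    have h1 := Ideal.pow_le_pow_right (I := J) (le_max_left k m) (hy'N i)
    have := add_mem h1 (hxcomp k (max k m) (le_max_left k m) i)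
    convert! this using 1
    ring
  let ψ : B →ₐ[A] Ch := (Ideal.Quotient.liftₐ (RingHom.ker π) (aeval y) fun p hp =>
    (Ideal.mem_bot).1 (hy p hp)).comp (Ideal.quotientKerAlgEquivOfSurjective hπ).symm.toAlgHom
  have hψ : ∀ p, ψ (π p) = aeval y p := fun p => by
    have : (Ideal.quotientKerAlgEquivOfSurjective hπ).symm (π p) = Ideal.Quotient.mk _ p :=
      (AlgEquiv.symm_apply_eq _).2 rfl
    simp [ψ, this]
  refine ⟨ψ, fun k b => ?_, fun ψ' hψ' => ?_⟩
  · obtain ⟨p, rfl⟩ := hπ b
    refine ⟨aeval (c k) p, ?_, ?_⟩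
    · rw [hψ, show algebraMap C Ch (aeval (c k) p) = aeval (x k) p from comp_aeval_apply (c k) f p]
      exact aeval_sub_mem (hyall k) p
    · have h := AdicCompletion.factor_evalₐ_eq_eval (I.map (algebraMap A C))
        (φ (AdicCompletion.of (I.map (algebraMap A B)) B (π p))) (n := k) (by simp)
      rw [← h]
      rw [show AdicCompletion.evalₐ (I.map (algebraMap A C)) k
          (φ (AdicCompletion.of (I.map (algebraMap A B)) B (π p))) =
        Ideal.Quotient.mk _ (aeval (c k) p) from (hcp k p).symm, Ideal.Quotient.factor_mk]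
      rfl
  · refine AlgHom.ext fun b => ?_
    have h0 : ψ' b - ψ b ∈ ⨅ k : ℕ, J ^ k := by
      refine (Ideal.mem_iInf).2 fun k => ?_
      obtain ⟨p, rfl⟩ := hπ b
      obtain ⟨c₂, h2, h2'⟩ := hψ' k (π p)
      have h := AdicCompletion.factor_evalₐ_eq_eval (I.map (algebraMap A C))
        (φ (AdicCompletion.of (I.map (algebraMap A B)) B (π p))) (n := k) (by simp)
      rw [← h, show AdicCompletion.evalₐ (I.map (algebraMap A C)) k (φ (AdicCompletion.of (I.map (algebraMap A B)) B (π p))) =
        Ideal.Quotient.mk _ (aeval (c k) p) from (hcp k p).symm, Ideal.Quotient.factor_mk] at h2'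
      have hdiff : aeval (c k) p - c₂ ∈ (I.map (algebraMap A C)) ^ k := by
        have := (Submodule.Quotient.eq _).1 h2'
        simpa using this
      have h3 : ψ (π p) - algebraMap C Ch (aeval (c k) p) ∈ J ^ k := by
        rw [hψ, show algebraMap C Ch (aeval (c k) p) = aeval (x k) p from comp_aeval_apply (c k) f p]
        exact aeval_sub_mem (hyall k) p
      have := sub_mem (sub_mem h2 h3) (hfmem k _ hdiff)
      rw [map_sub] at this
      convert! this using 1
      ring
    have hK := Ideal.iInf_pow_smul_eq_bot_of_le_jacobson (M := Ch) J HenselianRing.jac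
    simp only [smul_eq_mul, ← Ideal.one_eq_top, mul_one] at hK
    rw [hK, Ideal.mem_bot, sub_eq_zero] at h0
    exact h0

end Groth.Agent.RigEtale7
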